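import Mathlib

/-!
# Semilinear descent of subspaces and ideals along an automorphism with fixed field `k` (helper2)

`τ : K → K` a ring endomorphism whose fixed elements are exactly `k`.  A `K`-subspace of `ι →₀ K`
(resp. an ideal of `K ⊗[k] A`, resp. of a pushout `B` of `A ← k → K`) stable under the
coefficientwise action of `τ` is generated by its `k`-rational elements.
-/

set_option autoImplicit false
set_option backward.isDefEq.respectTransparency.types false
set_option synthInstance.maxHeartbeats 400000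
set_option maxHeartbeats 4000000
set_option linter.style.haveILetI false
set_option linter.unusedSectionVars false
set_option linter.unusedVariables false

universe u
open CategoryTheory CategoryTheory.Limits TensorProduct

namespace Groth.Agent.Helper2.FrobDescent

section Finsupp

variable {k K ι : Type*} [Field k] [Field K] [Algebra k K]

theorem descent_finsupp (τ : K →+* K)
    (hτ : ∀ c : K, τ c = c → c ∈ (algebraMap k K).range)
    (V : Submodule K (ι →₀ K))
    (hV : ∀ v ∈ V, Finsupp.mapRange τ (map_zero τ) v ∈ V) :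
    ∀ (n : ℕ) (v : ι →₀ K), v ∈ V → v.support.card = n →
      v ∈ Submodule.span K {w | w ∈ V ∧ ∀ i, w i ∈ (algebraMap k K).range} := by
  classical
  intro n
  induction n using Nat.strong_induction_on with
  | _ n ih =>
  intro v hv h
  by_cases hv0 : v = 0
  · rw [hv0]; exact zero_mem _
  obtain ⟨i₀, hi₀⟩ : ∃ i, v i ≠ 0 := by
    by_contra hcon
    push Not at hcon
    exact hv0 (Finsupp.ext hcon)
  have hv'V : (v i₀)⁻¹ • v ∈ V := V.smul_mem _ hv
  have hv'i₀ : ((v i₀)⁻¹ • v) i₀ = 1 := by
    rw [Finsupp.smul_apply, smul_eq_mul, inv_mul_cancel₀ hi₀]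
  have hsupp' : ((v i₀)⁻¹ • v).support = v.support := Finsupp.support_smul_eq (inv_ne_zero hi₀)
  suffices hv'S : (v i₀)⁻¹ • v ∈
      Submodule.span K {w | w ∈ V ∧ ∀ i, w i ∈ (algebraMap k K).range} by
    have h1 : v = v i₀ • ((v i₀)⁻¹ • v) := by
      rw [smul_smul, mul_inv_cancel₀ hi₀, one_smul]
    rw [h1]
    exact Submodule.smul_mem _ _ hv'S
  generalize (v i₀)⁻¹ • v = v' at hv'V hv'i₀ hsupp' ⊢
  by_cases hall : ∀ i, v' i ∈ (algebraMap k K).range
  · exact Submodule.subset_span ⟨hv'V, hall⟩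
  push Not at hall
  obtain ⟨j, hj⟩ := hall
  have hτμ : τ (v' j) ≠ v' j := fun h => hj (hτ _ h)
  have hτμ' : τ (v' j) - v' j ≠ 0 := sub_ne_zero.mpr hτμ
  have huV : Finsupp.mapRange τ (map_zero τ) v' - v' ∈ V := V.sub_mem (hV v' hv'V) hv'V
  have hi₀mem : i₀ ∈ v.support := Finsupp.mem_support_iff.mpr hi₀
  have hjmem : j ∈ v.support := by
    rw [← hsupp', Finsupp.mem_support_iff]
    intro h0
    apply hj
    rw [h0]
    exact zero_mem _
  have hu_supp : (Finsupp.mapRange τ (map_zero τ) v' - v').support ⊆ v.support.erase i₀ := by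
    intro i hi
    rw [Finsupp.mem_support_iff] at hi
    rw [Finset.mem_erase, ← hsupp', Finsupp.mem_support_iff]
    refine ⟨?_, ?_⟩
    · rintro rfl
      apply hi
      rw [Finsupp.sub_apply, Finsupp.mapRange_apply, hv'i₀, map_one, sub_self]
    · intro h0
      apply hi
      rw [Finsupp.sub_apply, Finsupp.mapRange_apply, h0, map_zero, sub_self]
  have hu_card : (Finsupp.mapRange τ (map_zero τ) v' - v').support.card < n := by
    calc _ ≤ (v.support.erase i₀).card := Finset.card_le_card hu_supp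
      _ < v.support.card := Finset.card_erase_lt_of_mem hi₀mem
      _ = n := h
  have huS := ih _ hu_card _ huV rfl
  have hv''V : v' - (v' j * (τ (v' j) - v' j)⁻¹) • (Finsupp.mapRange τ (map_zero τ) v' - v') ∈ V :=
    V.sub_mem hv'V (V.smul_mem _ huV)
  have hv''_supp : (v' - (v' j * (τ (v' j) - v' j)⁻¹) •
      (Finsupp.mapRange τ (map_zero τ) v' - v')).support ⊆ v.support.erase j := by
    intro i hi
    rw [Finsupp.mem_support_iff] at hi
    rw [Finset.mem_erase, ← hsupp', Finsupp.mem_support_iff]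
    refine ⟨?_, ?_⟩
    · rintro rfl
      apply hi
      rw [Finsupp.sub_apply, Finsupp.smul_apply, Finsupp.sub_apply, Finsupp.mapRange_apply,
        smul_eq_mul, mul_assoc, inv_mul_cancel₀ hτμ', mul_one, sub_self]
    · intro h0
      apply hi
      rw [Finsupp.sub_apply, Finsupp.smul_apply, Finsupp.sub_apply, Finsupp.mapRange_apply, h0,
        map_zero, sub_self, smul_zero, sub_zero]
  have hv''_card : (v' - (v' j * (τ (v' j) - v' j)⁻¹) •
      (Finsupp.mapRange τ (map_zero τ) v' - v')).support.card < n := by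
    calc _ ≤ (v.support.erase j).card := Finset.card_le_card hv''_supp
      _ < v.support.card := Finset.card_erase_lt_of_mem hjmem
      _ = n := h
  have hv''S := ih _ hv''_card _ hv''V rfl
  have h2 : v' = (v' - (v' j * (τ (v' j) - v' j)⁻¹) • (Finsupp.mapRange τ (map_zero τ) v' - v')) +
      (v' j * (τ (v' j) - v' j)⁻¹) • (Finsupp.mapRange τ (map_zero τ) v' - v') := by
    rw [sub_add_cancel]
  rw [h2]
  exact Submodule.add_mem _ hv''S (Submodule.smul_mem _ _ huS)

end Finsupp

section Tensor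

variable {k K A : Type u} [Field k] [Field K] [Algebra k K] [CommRing A] [Algebra k A]

theorem descent_tensor (τ : K →ₐ[k] K) (hτ : ∀ c : K, τ c = c → c ∈ (algebraMap k K).range)
    (I : Ideal (K ⊗[k] A))
    (hI : ∀ b ∈ I, Algebra.TensorProduct.map τ (AlgHom.id k A) b ∈ I) :
    I ≤ Ideal.map (Algebra.TensorProduct.includeRight : A →ₐ[k] K ⊗[k] A)
      (Ideal.comap (Algebra.TensorProduct.includeRight : A →ₐ[k] K ⊗[k] A) I) := by
  classical
  let b := Module.Free.chooseBasis k A
  let B' := Algebra.TensorProduct.basis K b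
  have hrepr : ∀ x : K ⊗[k] A, B'.repr (Algebra.TensorProduct.map τ (AlgHom.id k A) x) =
      Finsupp.mapRange τ (map_zero τ) (B'.repr x) := by
    intro x
    induction x using TensorProduct.induction_on with
    | zero => simp
    | tmul c a =>
      rw [Algebra.TensorProduct.map_tmul, AlgHom.id_apply]
      change (Algebra.TensorProduct.basis K b).repr (τ c ⊗ₜ[k] a) =
        Finsupp.mapRange τ (map_zero τ) ((Algebra.TensorProduct.basis K b).repr (c ⊗ₜ[k] a))
      rw [Algebra.TensorProduct.basis_repr_tmul, Algebra.TensorProduct.basis_repr_tmul]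
      ext i
      simp only [Finsupp.smul_apply, Finsupp.mapRange_apply, smul_eq_mul, map_mul,
        AlgHom.commutes]
    | add x y hx hy =>
      rw [map_add, map_add, hx, hy, map_add]
      ext i
      simp only [Finsupp.mapRange_apply, Finsupp.add_apply, map_add]
  let V : Submodule K (_ →₀ K) := (I.restrictScalars K).map B'.repr.toLinearMap
  have hV : ∀ v ∈ V, Finsupp.mapRange τ (map_zero τ) v ∈ V := by
    rintro _ ⟨x, hx, rfl⟩
    exact ⟨Algebra.TensorProduct.map τ (AlgHom.id k A) x, hI x hx, hrepr x⟩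
  intro x hx
  have h1 := descent_finsupp (k := k) (τ : K →+* K) hτ V hV _ (B'.repr x) ⟨x, hx, rfl⟩ rfl
  have h2 : Submodule.span K {w | w ∈ V ∧ ∀ i, w i ∈ (algebraMap k K).range} ≤
      ((Ideal.map (Algebra.TensorProduct.includeRight : A →ₐ[k] K ⊗[k] A)
        (Ideal.comap (Algebra.TensorProduct.includeRight : A →ₐ[k] K ⊗[k] A) I)).restrictScalars
          K).map B'.repr.toLinearMap := by
    rw [Submodule.span_le]
    rintro w ⟨⟨y, hy, rfl⟩, hcoef⟩
    refine ⟨y, ?_, rfl⟩
    choose r hr using hcoef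
    have hya : y = (Algebra.TensorProduct.includeRight : A →ₐ[k] K ⊗[k] A)
        (∑ i ∈ (B'.repr y).support, r i • b i) := by
      conv_lhs => rw [← B'.linearCombination_repr y, Finsupp.linearCombination_apply,
        Finsupp.sum]
      rw [map_sum]
      refine Finset.sum_congr rfl (fun i _ => ?_)
      have h3 : (B'.repr y) i = algebraMap k K (r i) := (hr i).symm
      rw [h3]
      change algebraMap k K (r i) • (Algebra.TensorProduct.basis K b) i = _
      rw [Algebra.TensorProduct.basis_apply, Algebra.TensorProduct.includeRight_apply,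
        TensorProduct.smul_tmul', smul_eq_mul, mul_one, Algebra.algebraMap_eq_smul_one,
        TensorProduct.smul_tmul]
    change y ∈ Ideal.map (Algebra.TensorProduct.includeRight : A →ₐ[k] K ⊗[k] A)
        (Ideal.comap (Algebra.TensorProduct.includeRight : A →ₐ[k] K ⊗[k] A) I)
    rw [hya]
    apply Ideal.mem_map_of_mem
    rw [Ideal.mem_comap, ← hya]
    exact hy
  obtain ⟨x', hx', hxx'⟩ := h2 h1
  have h4 : x' = x := B'.repr.injective hxx'
  exact h4 ▸ hx'

end Tensor

section Pushout

variable {k K : Type u} [Field k] [Field K] [Algebra k K] {A B : CommRingCat.{u}}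
    {α : CommRingCat.of k ⟶ A} {ι₁ : A ⟶ B} {ι₂ : CommRingCat.of K ⟶ B}

theorem ideal_le_map_comap_of_isPushout
    (hpo : IsPushout α (CommRingCat.ofHom (algebraMap k K)) ι₁ ι₂)
    (τ : K →ₐ[k] K) (hτ : ∀ c : K, τ c = c → c ∈ (algebraMap k K).range)
    (Θ : B →+* B) (hΘ1 : ∀ a, Θ (ι₁.hom a) = ι₁.hom a) (hΘ2 : ∀ c, Θ (ι₂.hom c) = ι₂.hom (τ c))
    (I : Ideal B) (hI : ∀ b ∈ I, Θ b ∈ I) :
    I ≤ Ideal.map ι₁.hom (Ideal.comap ι₁.hom I) := by
  letI algA : Algebra k A := α.hom.toAlgebra
  have tp := CommRingCat.isPushout_tensorProduct k K A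
  have hpo' : IsPushout (CommRingCat.ofHom (algebraMap k K))
      (CommRingCat.ofHom (algebraMap k A)) ι₂ ι₁ := hpo.flip
  let iso := tp.isoIsPushout _ _ hpo'
  have e1 : ∀ x : K, iso.hom (x ⊗ₜ[k] (1 : A)) = ι₂.hom x := fun x =>
    congr($(tp.inl_isoIsPushout_hom _ _ hpo') x)
  have e2 : ∀ y : A, iso.hom ((1 : K) ⊗ₜ[k] y) = ι₁.hom y := fun y =>
    congr($(tp.inr_isoIsPushout_hom _ _ hpo') y)
  have e3 : ∀ (x : K) (y : A), iso.hom (x ⊗ₜ[k] y) = ι₂.hom x * ι₁.hom y := by
    intro x y
    have h3 : x ⊗ₜ[k] y = (x ⊗ₜ[k] (1 : A)) * ((1 : K) ⊗ₜ[k] y) := by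
      rw [Algebra.TensorProduct.tmul_mul_tmul, mul_one, one_mul]
    rw [h3, map_mul, e1, e2]
  have hΘT : ∀ t : K ⊗[k] A, Θ (iso.hom.hom t) =
      iso.hom.hom (Algebra.TensorProduct.map τ (AlgHom.id k A) t) := by
    intro t
    induction t using TensorProduct.induction_on with
    | zero => simp
    | tmul c a =>
      rw [Algebra.TensorProduct.map_tmul, AlgHom.id_apply]
      change Θ (iso.hom (c ⊗ₜ[k] a)) = iso.hom (τ c ⊗ₜ[k] a)
      rw [e3, e3, map_mul, hΘ1, hΘ2]
    | add x y hx hy => rw [map_add, map_add, map_add, map_add, hx, hy]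
  have hI' : ∀ t ∈ Ideal.comap iso.hom.hom I,
      Algebra.TensorProduct.map τ (AlgHom.id k A) t ∈ Ideal.comap iso.hom.hom I := by
    intro t ht
    rw [Ideal.mem_comap] at ht ⊢
    rw [← hΘT]
    exact hI _ ht
  have hdesc := descent_tensor τ hτ (Ideal.comap iso.hom.hom I) hI'
  intro x hx
  have hx1 : x = iso.hom.hom (iso.inv.hom x) := by
    change x = (iso.inv ≫ iso.hom) x
    rw [Iso.inv_hom_id]; rfl
  have hx2 : iso.inv.hom x ∈ Ideal.comap iso.hom.hom I := by
    rw [Ideal.mem_comap, ← hx1]; exact hx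
  have hx3 := Ideal.mem_map_of_mem iso.hom.hom (hdesc hx2)
  rw [← hx1] at hx3
  have hle : Ideal.map iso.hom.hom
      (Ideal.map (Algebra.TensorProduct.includeRight : A →ₐ[k] K ⊗[k] A)
        (Ideal.comap (Algebra.TensorProduct.includeRight : A →ₐ[k] K ⊗[k] A)
          (Ideal.comap iso.hom.hom I))) ≤ Ideal.map ι₁.hom (Ideal.comap ι₁.hom I) := by
    refine Ideal.map_le_iff_le_comap.mpr (Ideal.map_le_iff_le_comap.mpr ?_)
    intro a ha
    rw [Ideal.mem_comap, Ideal.mem_comap] at ha
    rw [Ideal.mem_comap, Ideal.mem_comap]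
    have h5 : iso.hom.hom ((Algebra.TensorProduct.includeRight : A →ₐ[k] K ⊗[k] A) a) =
        ι₁.hom a := e2 a
    rw [h5] at ha ⊢
    exact Ideal.mem_map_of_mem _ ha
  exact hle hx3

end Pushout

end Groth.Agent.Helper2.FrobDescent
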