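import Mathlib
import Groth.Prelude.Def_FinFr
import Groth.Agent.Lib.Helper2.FrobDescent.Alg
import Groth.Agent.Lib.Helper2.FixFrob.Main

/-!
# Closed subsets of `X ×_k k̄` stable under the Frobenius descend to `X` (S13072) (helper2)
-/

set_option autoImplicit false
set_option backward.isDefEq.respectTransparency.types false
set_option synthInstance.maxHeartbeats 400000
set_option maxHeartbeats 4000000
set_option linter.style.haveILetI false
set_option linter.unusedSectionVars false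
set_option linter.unusedVariables false

universe u
open CategoryTheory CategoryTheory.Limits AlgebraicGeometry Opposite

namespace Groth.Agent.Helper2.FrobDescent

open FinFr Groth.Agent.Helper2.FixFrob

section Geo

variable {k : Type u} [Field k] [Finite k]
  {X : Scheme.{u}} (f : X ⟶ Spec (CommRingCat.of k))
  (FX : X ⟶ X) (hFb : FX.base = 𝟙 _) (hle : ∀ U : X.Opens, U ≤ FX ⁻¹ᵁ U)
  (hFapp : ∀ (U : X.Opens) (s : Γ(X, U)), (FX.appLE U U (hle U)).hom s = s ^ Nat.card k)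
  (F : ext (AlgebraicClosure k) f ⟶ ext (AlgebraicClosure k) f)
  (hF1 : F ≫ extπ (AlgebraicClosure k) f = extπ (AlgebraicClosure k) f ≫ FX)
  (hF2 : F ≫ extStr (AlgebraicClosure k) f = extStr (AlgebraicClosure k) f)

local notation "𝕂" => AlgebraicClosure k
local notation "π" => extπ (AlgebraicClosure k) f
local notation "str" => extStr (AlgebraicClosure k) f

include hFb in
theorem FX_apply (x : X) : FX x = x := by
  have h1 : FX x = FX.base x := rfl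
  rw [h1, hFb]
  rfl

include hFb hF1 in
theorem le_F_preimage (U : X.Opens) : π ⁻¹ᵁ U ≤ F ⁻¹ᵁ (π ⁻¹ᵁ U) := by
  intro x hx
  change π (F x) ∈ U
  have h1 : π (F x) = (F ≫ π) x := rfl
  rw [h1, hF1, Scheme.Hom.comp_apply, FX_apply FX hFb]
  exact hx

include hFb hFapp hF1 hF2 in
theorem mem_of_fiber_eq (W : Set ↑(ext 𝕂 f)) (hW : IsClosed W) (hFW : F.base '' W ⊆ W)
    (w w' : ↑(ext 𝕂 f)) (hw : w ∈ W) (hww' : π w' = π w) : w' ∈ W := by
  classical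
  letI : Fintype k := Fintype.ofFinite k
  have hq : Nat.card k = Fintype.card k := Nat.card_eq_fintype_card
  obtain ⟨p, hchar⟩ := CharP.exists k
  obtain ⟨r, hp, hcard⟩ := FiniteField.card k p
  haveI : Fact p.Prime := ⟨hp⟩
  haveI : CharP 𝕂 p := charP_of_injective_algebraMap (algebraMap k 𝕂).injective p
  -- affine opens
  obtain ⟨U, hU, hxU, -⟩ := exists_isAffineOpen_mem_and_subset (X := X) (x := π w) (U := ⊤) trivial
  haveI : IsAffineHom π :=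
    MorphismProperty.pullback_fst (P := @IsAffineHom) f (specι k 𝕂) inferInstance
  let V : (ext 𝕂 f).Opens := π ⁻¹ᵁ U
  have hV : IsAffineOpen V := hU.preimage π
  have hwV : w ∈ V := hxU
  have hw'V : w' ∈ V := by
    change π w' ∈ U
    rw [hww']
    exact hxU
  have hVY : V = π ⁻¹ᵁ U ⊓ str ⁻¹ᵁ ⊤ := by simp [V]
  have hpb : IsPullback π str f (specι k 𝕂) := IsPullback.of_hasPullback _ _
  have hiso := isIso_pushoutSection_of_isAffineOpen hpb (US := ⊤) (UT := ⊤) (UX := U) le_top le_top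
    hVY (isAffineOpen_top _) (isAffineOpen_top _) hU
  have hpo₀ := (isIso_pushoutSection_iff hpb le_top le_top hVY).mp hiso
  let ek := Scheme.ΓSpecIso (CommRingCat.of k)
  let eK := Scheme.ΓSpecIso (CommRingCat.of 𝕂)
  have hUπ : V ≤ π ⁻¹ᵁ U := le_rfl
  have hVs : V ≤ str ⁻¹ᵁ ⊤ := le_top
  let α : CommRingCat.of k ⟶ Γ(X, U) := ek.inv ≫ Scheme.Hom.appLE f ⊤ U le_top
  let ι₁ : Γ(X, U) ⟶ Γ(ext 𝕂 f, V) := Scheme.Hom.appLE π U V hUπ
  let ι₂ : CommRingCat.of 𝕂 ⟶ Γ(ext 𝕂 f, V) := eK.inv ≫ Scheme.Hom.appLE str ⊤ V hVs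
  have hpo : IsPushout α (CommRingCat.ofHom (algebraMap k 𝕂)) ι₁ ι₂ := by
    refine IsPushout.of_iso hpo₀ ek (Iso.refl _) eK (Iso.refl _) ?_ ?_ ?_ ?_
    · simp [α]
    · have h1 : Scheme.Hom.appLE (specι k 𝕂) ⊤ ⊤ le_top = (specι k 𝕂).appTop := by
        rw [Scheme.Hom.appTop, Scheme.Hom.app_eq_appLE]
        rfl
      have h2 := Scheme.ΓSpecIso_naturality (CommRingCat.ofHom (algebraMap k 𝕂))
      rw [← h1] at h2
      exact h2
    · simp [ι₁]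
    · simp [ι₂]
  -- the Frobenius on sections
  have hVF : V ≤ F ⁻¹ᵁ V := le_F_preimage f FX hFb F hF1 U
  have hΦ1 : ∀ a, (F.appLE V V hVF).hom (ι₁.hom a) = ι₁.hom a ^ Fintype.card k := by
    intro a
    have hW1 : V ≤ (F ≫ π) ⁻¹ᵁ U := hVF
    have hW2 : V ≤ (π ≫ FX) ⁻¹ᵁ U := by rw [← hF1]; exact hW1
    have h2 : Scheme.Hom.appLE π U V hUπ ≫ F.appLE V V hVF = (F ≫ π).appLE U V hW1 :=
      Scheme.Hom.appLE_comp_appLE _ _ _ _ _ _ _
    have h3 : (F ≫ π).appLE U V hW1 = (π ≫ FX).appLE U V hW2 := appLE_congr_hom hF1 _ _ hW1 hW2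
    have h4 : FX.appLE U U (hle U) ≫ Scheme.Hom.appLE π U V hUπ = (π ≫ FX).appLE U V hW2 :=
      Scheme.Hom.appLE_comp_appLE _ _ _ _ _ _ _
    have h5 := congrArg (fun t => t.hom a) (h2.trans (h3.trans h4.symm))
    simp only [CommRingCat.hom_comp, RingHom.comp_apply] at h5
    rw [hFapp, map_pow, hq] at h5
    exact h5
  have hΦ2 : ∀ c, (F.appLE V V hVF).hom (ι₂.hom c) = ι₂.hom c := by
    intro c
    have hW1 : V ≤ (F ≫ str) ⁻¹ᵁ ⊤ := le_top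
    have h2 : Scheme.Hom.appLE str ⊤ V hVs ≫ F.appLE V V hVF = (F ≫ str).appLE ⊤ V hW1 :=
      Scheme.Hom.appLE_comp_appLE _ _ _ _ _ _ _
    have h3 : (F ≫ str).appLE ⊤ V hW1 = Scheme.Hom.appLE str ⊤ V hVs :=
      appLE_congr_hom hF2 _ _ hW1 hVs
    have h5 := congrArg (fun t => t.hom (eK.inv.hom c)) (h2.trans h3)
    simp only [CommRingCat.hom_comp, RingHom.comp_apply] at h5
    exact h5
  -- the inverse arithmetic Frobenius
  let φ : 𝕂 ≃ₐ[k] 𝕂 := FiniteField.frobeniusAlgEquivOfAlgebraic k 𝕂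
  let τ : 𝕂 →ₐ[k] 𝕂 := (φ.symm : 𝕂 →ₐ[k] 𝕂)
  have hτpow : ∀ c : 𝕂, (τ c) ^ Fintype.card k = c := by
    intro c
    have h1 : φ (φ.symm c) = c := φ.apply_symm_apply c
    exact h1
  have hτ : ∀ c : 𝕂, τ c = c → c ∈ (algebraMap k 𝕂).range := by
    intro c hc
    have h1 : c ^ Fintype.card k = c := by
      have h2 := hτpow c
      rw [hc] at h2
      exact h2
    obtain ⟨a, ha⟩ := eq_map_of_pow_card_eq (algebraMap k 𝕂) c h1
    exact ⟨a, ha.symm⟩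
  have hτalg : CommRingCat.ofHom (algebraMap k 𝕂) ≫ CommRingCat.ofHom (τ : 𝕂 →+* 𝕂) =
      CommRingCat.ofHom (algebraMap k 𝕂) := by
    ext c
    exact τ.commutes c
  have hcomm : α ≫ ι₁ = CommRingCat.ofHom (algebraMap k 𝕂) ≫
      (CommRingCat.ofHom (τ : 𝕂 →+* 𝕂) ≫ ι₂) := by
    have h1 : CommRingCat.ofHom (algebraMap k 𝕂) ≫ (CommRingCat.ofHom (τ : 𝕂 →+* 𝕂) ≫ ι₂) =
        (CommRingCat.ofHom (algebraMap k 𝕂) ≫ CommRingCat.ofHom (τ : 𝕂 →+* 𝕂)) ≫ ι₂ :=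
      (Category.assoc _ _ _).symm
    rw [h1, hτalg]
    exact hpo.w
  let Θ : Γ(ext 𝕂 f, V) →+* Γ(ext 𝕂 f, V) :=
    (hpo.desc ι₁ (CommRingCat.ofHom (τ : 𝕂 →+* 𝕂) ≫ ι₂) hcomm).hom
  have hΘ1 : ∀ a, Θ (ι₁.hom a) = ι₁.hom a := fun a =>
    congrArg (fun t => t.hom a) (hpo.inl_desc ι₁ (CommRingCat.ofHom (τ : 𝕂 →+* 𝕂) ≫ ι₂) hcomm)
  have hΘ2 : ∀ c, Θ (ι₂.hom c) = ι₂.hom (τ c) := fun c =>
    congrArg (fun t => t.hom c) (hpo.inr_desc ι₁ (CommRingCat.ofHom (τ : 𝕂 →+* 𝕂) ≫ ι₂) hcomm)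
  -- primes
  let 𝔭 := hV.primeIdealOf ⟨w, hwV⟩
  let 𝔭' := hV.primeIdealOf ⟨w', hw'V⟩
  have h𝔭 : hV.fromSpec 𝔭 = w := hV.fromSpec_primeIdealOf ⟨w, hwV⟩
  have h𝔭' : hV.fromSpec 𝔭' = w' := hV.fromSpec_primeIdealOf ⟨w', hw'V⟩
  haveI : Nontrivial Γ(ext 𝕂 f, V) := by
    by_contra h
    rw [not_nontrivial_iff_subsingleton] at h
    exact 𝔭.isPrime.ne_top ((Ideal.eq_top_iff_one _).mpr
      (by rw [Subsingleton.elim (1 : Γ(ext 𝕂 f, V)) 0]; exact zero_mem _))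
  haveI : CharP Γ(ext 𝕂 f, V) p := charP_of_injective_ringHom ι₂.hom.injective p
  -- Φ = (Θ ·)^q
  have hΦΘ : ∀ b, (F.appLE V V hVF).hom b = (Θ b) ^ Fintype.card k := by
    have hS : RingHom.eqLocus (F.appLE V V hVF).hom
        ((iterateFrobenius Γ(ext 𝕂 f, V) p r).comp Θ) = ⊤ := by
      apply subring_eq_top_of_isPushout hpo
      · intro a
        change (F.appLE V V hVF).hom (ι₁.hom a) =
          iterateFrobenius Γ(ext 𝕂 f, V) p r (Θ (ι₁.hom a))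
        rw [hΦ1, hΘ1, iterateFrobenius_def, hcard]
      · intro c
        change (F.appLE V V hVF).hom (ι₂.hom c) =
          iterateFrobenius Γ(ext 𝕂 f, V) p r (Θ (ι₂.hom c))
        rw [hΦ2, hΘ2, iterateFrobenius_def, ← map_pow, ← hcard, hτpow]
    intro b
    have hb : b ∈ RingHom.eqLocus (F.appLE V V hVF).hom
        ((iterateFrobenius Γ(ext 𝕂 f, V) p r).comp Θ) := by rw [hS]; trivial
    have hb' : (F.appLE V V hVF).hom b = iterateFrobenius Γ(ext 𝕂 f, V) p r (Θ b) := hb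
    rw [hb', iterateFrobenius_def, hcard]
  -- the vanishing ideal
  let T : Set (PrimeSpectrum Γ(ext 𝕂 f, V)) := hV.fromSpec ⁻¹' W
  have hTcl : IsClosed T := hW.preimage hV.fromSpec.continuous
  have hΦT : ∀ 𝔮 ∈ T, Spec.map (F.appLE V V hVF) 𝔮 ∈ T := by
    intro 𝔮 h𝔮
    change hV.fromSpec (Spec.map (F.appLE V V hVF) 𝔮) ∈ W
    have h1 : hV.fromSpec (Spec.map (F.appLE V V hVF) 𝔮) =
        (Spec.map (F.appLE V V hVF) ≫ hV.fromSpec) 𝔮 := rfl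
    rw [h1, IsAffineOpen.SpecMap_appLE_fromSpec F hV hV hVF]
    exact hFW ⟨hV.fromSpec 𝔮, h𝔮, rfl⟩
  have hΦI : ∀ b ∈ PrimeSpectrum.vanishingIdeal T,
      (F.appLE V V hVF).hom b ∈ PrimeSpectrum.vanishingIdeal T := by
    intro b hb
    rw [PrimeSpectrum.mem_vanishingIdeal] at hb ⊢
    intro 𝔮 h𝔮
    exact hb _ (hΦT 𝔮 h𝔮)
  have hΘI : ∀ b ∈ PrimeSpectrum.vanishingIdeal T, Θ b ∈ PrimeSpectrum.vanishingIdeal T := by
    intro b hb
    have h1 := hΦI b hb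
    rw [hΦΘ] at h1
    exact (PrimeSpectrum.isRadical_vanishingIdeal T) ⟨_, h1⟩
  have hdesc := ideal_le_map_comap_of_isPushout hpo τ hτ Θ hΘ1 hΘ2 _ hΘI
  -- conclusion
  have h𝔭T : 𝔭 ∈ T := by
    change hV.fromSpec 𝔭 ∈ W
    rw [h𝔭]
    exact hw
  have hsame : Spec.map ι₁ 𝔭 = Spec.map ι₁ 𝔭' := by
    apply hU.fromSpec.isOpenEmbedding.injective
    have h1 : ∀ 𝔮, hU.fromSpec (Spec.map ι₁ 𝔮) = π (hV.fromSpec 𝔮) := by
      intro 𝔮
      have h2 : hU.fromSpec (Spec.map ι₁ 𝔮) = (Spec.map ι₁ ≫ hU.fromSpec) 𝔮 := rfl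
      rw [h2, IsAffineOpen.SpecMap_appLE_fromSpec π hU hV hUπ]
      rfl
    rw [h1, h1, h𝔭, h𝔭', hww']
  have h𝔭'T : 𝔭' ∈ T := by
    rw [← hTcl.closure_eq, ← PrimeSpectrum.zeroLocus_vanishingIdeal_eq_closure,
      PrimeSpectrum.mem_zeroLocus, SetLike.coe_subset_coe]
    refine le_trans hdesc ?_
    rw [Ideal.map_le_iff_le_comap]
    have h1 : PrimeSpectrum.vanishingIdeal T ≤ 𝔭.asIdeal := by
      intro b hb
      rw [PrimeSpectrum.mem_vanishingIdeal] at hb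
      exact hb 𝔭 h𝔭T
    have h2 : Ideal.comap ι₁.hom 𝔭.asIdeal = Ideal.comap ι₁.hom 𝔭'.asIdeal :=
      congrArg PrimeSpectrum.asIdeal hsame
    rw [← h2]
    exact Ideal.comap_mono h1
  have h3 : hV.fromSpec 𝔭' ∈ W := h𝔭'T
  rw [h𝔭'] at h3
  exact h3

include hFb hFapp hF1 hF2 in
theorem S13072_main (W : Set ↑(ext 𝕂 f)) (hW : IsClosed W) :
    (∃ Y : Set X, IsClosed Y ∧ (extπ 𝕂 f).base ⁻¹' Y = W) ↔ F.base '' W ⊆ W := by
  constructor
  · rintro ⟨Y, hY, rfl⟩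
    rintro _ ⟨w, hw, rfl⟩
    change π (F w) ∈ Y
    have h1 : π (F w) = (F ≫ π) w := rfl
    rw [h1, hF1, Scheme.Hom.comp_apply, FX_apply FX hFb]
    exact hw
  · intro hFW
    haveI : IsIntegralHom (specι k 𝕂) := by
      rw [IsIntegralHom.SpecMap_iff]
      exact algebraMap_isIntegral_iff.mpr inferInstance
    haveI : IsIntegralHom π := inferInstance
    refine ⟨(extπ 𝕂 f).base '' W, (extπ 𝕂 f).isClosedMap _ hW, ?_⟩
    ext w'
    constructor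
    · rintro ⟨w, hw, hww'⟩
      exact mem_of_fiber_eq f FX hFb hle hFapp F hF1 hF2 W hW hFW w w' hw hww'.symm
    · intro hw'
      exact ⟨w', hw', rfl⟩

end Geo

end Groth.Agent.Helper2.FrobDescent
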